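import Groth.Agent.Lib.OmegaSub11.Uniform
import Groth.Prelude.Def_NonAbH2

/-!
The square of the diagonal of a torsor and the unit section of the group.
-/

set_option autoImplicit false
set_option linter.style.haveILetI false
set_option backward.isDefEq.respectTransparency false

universe u

open CategoryTheory CategoryTheory.Limits CartesianMonoidalCategory MonoidalCategory MonObj AlgebraicGeometry

noncomputable section

namespace GrothLib.TorsorDiag12

variable {S : Scheme.{u}} {G Y : Over S} [GrpObj G] {X : Over Y.left} (a : AlgGrp.Action (Red.bc Y.hom G) X)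

/-- The point `(1, x)`. -/
def sec : X ⟶ Red.bc Y.hom G ⊗ X := lift (toUnit X ≫ η[Red.bc Y.hom G]) (𝟙 X)

/-- The first projection to the group. -/
abbrev pr : (Red.bc Y.hom G ⊗ X).left ⟶ G.left :=
  (fst (Red.bc Y.hom G) X).left ≫ pullback.fst G.hom Y.hom

theorem sec_act : sec (G := G) (X := X) ≫ a.act = 𝟙 X := by
  have : sec (G := G) (X := X) = (λ_ X).inv ≫ (η[Red.bc Y.hom G] ▷ X) := by
    ext1 <;> simp [sec]
  rw [this, Category.assoc, a.one_act, Iso.inv_hom_id]

theorem isPullback_pr :
    IsPullback (pr (G := G) (X := X)) (snd (Red.bc Y.hom G) X).left G.hom (X.hom ≫ Y.hom) := by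
  have h1 : IsPullback (fst (Red.bc Y.hom G) X).left (snd (Red.bc Y.hom G) X).left
      (Red.bc Y.hom G).hom X.hom := IsPullback.of_hasPullback _ _
  have h2 : IsPullback (pullback.fst G.hom Y.hom) (Red.bc Y.hom G).hom G.hom Y.hom :=
    IsPullback.of_hasPullback _ _
  exact h1.paste_horiz h2

theorem sec_pr : (sec (G := G) (X := X)).left ≫ pr = (X.hom ≫ Y.hom) ≫ η[G].left := by
  have h : sec (G := G) (X := X) ≫ fst _ _ = toUnit X ≫ η[Red.bc Y.hom G] := lift_fst _ _
  have h' : (toUnit X).left = X.hom := by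
    have := Over.w (toUnit X)
    simpa using this
  rw [pr, ← Category.assoc, ← Over.comp_left, h, Over.comp_left, Category.assoc,
    OmegaSub11.eta_bc_fst, h', Category.assoc]

theorem isPullback_sec :
    IsPullback (sec (G := G) (X := X)).left (X.hom ≫ Y.hom) (pr (G := G) (X := X)) η[G].left := by
  have hη : η[G].left ≫ G.hom = 𝟙 S := Over.w η[G]
  have hs : (sec (G := G) (X := X)).left ≫ (snd (Red.bc Y.hom G) X).left = 𝟙 X.left := by
    rw [← Over.comp_left, show sec (G := G) (X := X) ≫ snd _ _ = 𝟙 X from lift_snd _ _]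
    rfl
  refine IsPullback.of_right (h₁₂ := (snd (Red.bc Y.hom G) X).left) (h₂₂ := G.hom) (v₁₃ := X.hom ≫ Y.hom)
    ?_ (sec_pr (G := G) (X := X)) isPullback_pr.flip
  rw [hs, hη]
  exact IsPullback.of_horiz_isIso ⟨by simp⟩

/-- The cartesian square and the flatness of its bottom map. -/
theorem exists_square [LocallyOfFiniteType G.hom] (hflat : ∀ {A : Scheme.{u}} (q : A ⟶ S), Flat q)
    (hψ : IsIso (lift a.act (snd (Red.bc Y.hom G) X)))
    (g : pullback X.hom X.hom ⟶ G.left)
    (hg : (lift a.act (snd (Red.bc Y.hom G) X)).left ≫ g = pr) :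
    IsPullback (pullback.diagonal X.hom) (X.hom ≫ Y.hom) g η[G].left ∧ Flat g := by
  let ψ := lift a.act (snd (Red.bc Y.hom G) X)
  haveI : IsIso ψ := hψ
  let ψl : (Red.bc Y.hom G ⊗ X).left ⟶ pullback X.hom X.hom := ψ.left
  haveI : IsIso ψl := (inferInstance : IsIso ((Over.forget _).map ψ))
  have hd : (sec (G := G) (X := X)).left ≫ ψl = pullback.diagonal X.hom := by
    have e : sec (G := G) (X := X) ≫ ψ = lift (𝟙 X) (𝟙 X) := by
      rw [comp_lift, sec_act, show sec (G := G) (X := X) ≫ snd _ _ = 𝟙 X from lift_snd _ _]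
    show (sec (G := G) (X := X)).left ≫ ψ.left = _
    rw [← Over.comp_left, e]
    apply pullback.hom_ext
    · rw [pullback.diagonal_fst]
      exact congrArg CommaMorphism.left (lift_fst (𝟙 X) (𝟙 X))
    · rw [pullback.diagonal_snd]
      exact congrArg CommaMorphism.left (lift_snd (𝟙 X) (𝟙 X))
  have hg' : g = inv ψl ≫ pr := (IsIso.eq_inv_comp ψl).2 hg
  haveI : Flat (pr (G := G) (X := X)) :=
    MorphismProperty.of_isPullback (isPullback_pr (G := G) (X := X)).flip (hflat _)
  refine ⟨?_, hg' ▸ inferInstance⟩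
  refine (isPullback_sec (G := G) (X := X)).of_iso (Iso.refl _) (asIso ψl) (Iso.refl _) (Iso.refl _) ?_ ?_ ?_ ?_
  · simp [hd]
  · simp
  · rw [Iso.refl_hom, Category.comp_id, asIso_hom]
    exact hg.symm
  · simp

end GrothLib.TorsorDiag12
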